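import Cfsg.Agent.Lib.Characters.Counting
import Cfsg.Agent.Lib.Characters.FrobSchur
import Cfsg.Agent.Lib.Characters.BrauerPerm
import Cfsg.Agent.Lib.Characters.LinearTwist
import Cfsg.Agent.Lib.Chars17.IrrBasic
import Cfsg.Agent.Lib.PGroup.Frattini
import Mathlib.GroupTheory.ClassEquation
import Mathlib.Algebra.Order.Chebyshev

/-!
Consequences of the involution count `1 + t = ∑ ν(χ) χ(1)`.
-/

namespace CfsgLib.Indicator

open Cfsg CfsgLib.Characters CfsgLib.FrobSchur
open scoped ComplexConjugate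

variable {G : Type*} [Group G] [Fintype G]

/-- Real valued. -/
def IsRealChar (χ : G → ℂ) : Prop := ∀ g, (χ g).im = 0

theorem exists_sign (χ : IrrCharacter G) : ∃ e : ℤ, (fsInd (χ : G → ℂ) = (e : ℂ)) ∧
    ((e = 1 ∨ e = -1) ∧ IsRealChar (χ : G → ℂ) ∨ e = 0 ∧ ¬ IsRealChar (χ : G → ℂ)) := by
  rcases fsInd_cases χ.2 with ⟨h1, h2 | h2⟩ | ⟨h1, h2⟩
  · exact ⟨1, by simpa using h2, Or.inl ⟨Or.inl rfl, h1⟩⟩
  · exact ⟨-1, by simpa using h2, Or.inl ⟨Or.inr rfl, h1⟩⟩
  · exact ⟨0, by simpa using h2, Or.inr ⟨rfl, h1⟩⟩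

theorem card_sqrt_eq (t : ℕ) (ht : Nat.card {x : G // orderOf x = 2} = t) :
    Nat.card {s : G // s * s = 1} = t + 1 := by
  classical
  rw [← ht, Nat.card_eq_fintype_card, Nat.card_eq_fintype_card, Fintype.card_subtype,
    Fintype.card_subtype]
  have hu : (Finset.univ.filter fun s : G => s * s = 1) =
      insert 1 (Finset.univ.filter fun s : G => orderOf s = 2) := by
    ext s
    simp only [Finset.mem_filter, Finset.mem_univ, true_and, Finset.mem_insert]
    rw [orderOf_eq_prime_iff (p := 2), pow_two]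
    constructor
    · intro h; by_cases hs : s = 1
      · exact Or.inl hs
      · exact Or.inr ⟨h, hs⟩
    · rintro (rfl | ⟨h, -⟩)
      · simp
      · exact h
  rw [hu, Finset.card_insert_of_notMem (by simp)]

theorem involution_count (t : ℕ) (ht : Nat.card {x : G // orderOf x = 2} = t) :
    ∃ e : IrrCharacter G → ℤ, (∀ χ : IrrCharacter G, (fsInd (χ : G → ℂ) = (e χ : ℂ)) ∧
      ((e χ = 1 ∨ e χ = -1) ∧ IsRealChar (χ : G → ℂ) ∨ e χ = 0 ∧ ¬ IsRealChar (χ : G → ℂ))) ∧
      ((t : ℤ) + 1 = ∑ χ : IrrCharacter G, e χ * (charDegree (χ : G → ℂ) : ℤ)) := by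
  choose e he using exists_sign (G := G)
  refine ⟨e, he, ?_⟩
  have h := card_sqrt_one_eq (G := G)
  rw [card_sqrt_eq t ht] at h
  have h2 : ((t : ℂ) + 1) = ∑ χ : IrrCharacter G, (e χ : ℂ) * (charDegree (χ : G → ℂ) : ℂ) := by
    push_cast at h
    rw [h]
    refine Finset.sum_congr rfl fun χ _ => ?_
    rw [CfsgLib.Chars17.cast_irrDegree, ← (he χ).1, fsInd_eq_sum]
  exact_mod_cast h2

open Classical in
/-- The nontrivial real irreducible characters. -/
noncomputable def realNontriv (G : Type*) [Group G] [Fintype G] : Finset (IrrCharacter G) :=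
  Finset.univ.filter fun χ => IsRealChar (χ : G → ℂ) ∧ χ ≠ principalIrr G

theorem charDegree_one' : charDegree ((principalIrr G : IrrCharacter G) : G → ℂ) = 1 := by
  simp [charDegree, principalIrr]

theorem fsInd_principal : fsInd ((principalIrr G : IrrCharacter G) : G → ℂ) = 1 := by
  rw [fsInd_eq_sum]
  simp [principalIrr, inv_mul_cancel₀ (Nat.cast_ne_zero.mpr Fintype.card_ne_zero : (Fintype.card G : ℂ) ≠ 0)]

theorem involutions_le_sum (t : ℕ) (ht : Nat.card {x : G // orderOf x = 2} = t) :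
    t ≤ ∑ χ ∈ realNontriv G, charDegree (χ : G → ℂ) := by
  classical
  obtain ⟨e, he, hsum⟩ := involution_count t ht
  rw [← Finset.add_sum_erase _ _ (Finset.mem_univ (principalIrr G))] at hsum
  have he1 : e (principalIrr G) = 1 := by
    have h := (he (principalIrr G)).1
    rw [fsInd_principal] at h
    exact_mod_cast h.symm
  rw [he1, charDegree_one'] at hsum
  have h2 : (t : ℤ) = ∑ χ ∈ Finset.univ.erase (principalIrr G), e χ * (charDegree (χ : G → ℂ) : ℤ) := by
    push_cast at hsum; linarith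
  have h3 : (t : ℤ) ≤ ((∑ χ ∈ realNontriv G, charDegree (χ : G → ℂ) : ℕ) : ℤ) := by
    rw [h2]
    push_cast
    rw [realNontriv, Finset.sum_filter]
    rw [← Finset.add_sum_erase _ _ (Finset.mem_univ (principalIrr G))]
    simp only [ne_eq, not_true_eq_false, and_false, if_false, zero_add]
    refine Finset.sum_le_sum fun χ hχ => ?_
    rcases (he χ).2 with ⟨h, hr⟩ | ⟨h, hr⟩
    · rw [if_pos ⟨hr, (Finset.mem_erase.mp hχ).1⟩]
      rcases h with h | h <;> rw [h] <;> omega
    · rw [if_neg (fun hh => hr hh.1), h, zero_mul]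
  exact_mod_cast h3

theorem sum_sq_realNontriv :
    ∑ χ ∈ realNontriv G, charDegree (χ : G → ℂ) ^ 2 + 1 ≤ Nat.card G := by
  classical
  rw [← CfsgLib.Chars17.natSum_sq_degrees,
    ← Finset.add_sum_erase _ _ (Finset.mem_univ (principalIrr G)), charDegree_one']
  have : ∑ χ ∈ realNontriv G, charDegree (χ : G → ℂ) ^ 2 ≤
      ∑ χ ∈ Finset.univ.erase (principalIrr G), charDegree (χ : G → ℂ) ^ 2 :=
    Finset.sum_le_sum_of_subset fun χ hχ => by
      simp only [realNontriv, Finset.mem_filter, Finset.mem_univ, true_and] at hχ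
      exact Finset.mem_erase.mpr ⟨hχ.2, Finset.mem_univ _⟩
  omega

theorem brauer_fowler_alpha (heven : Even (Nat.card G)) (t : ℕ)
    (ht : Nat.card {x : G // orderOf x = 2} = t) :
    (∃ x : G, x ≠ 1 ∧ ((Subgroup.centralizer ({x} : Set G)).index : ℚ) ≤ (((Nat.card G : ℚ) - 1) / t) ^ 2) ∧
      ∃ χ : IrrCharacter G, (χ : G → ℂ) ≠ (fun _ => 1) ∧ (∀ g : G, ((χ : G → ℂ) g).im = 0) ∧
        (charDegree (χ : G → ℂ) : ℚ) ≤ ((Nat.card G : ℚ) - 1) / t := by
  classical
  have htpos : 0 < t := by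
    obtain ⟨x, hx⟩ := exists_prime_orderOf_dvd_card' (G := G) 2 heven.two_dvd
    rw [← ht]
    haveI : Nonempty {x : G // orderOf x = 2} := ⟨⟨x, hx⟩⟩
    exact Nat.card_pos
  set S := realNontriv G with hS
  set α : ℚ := ((Nat.card G : ℚ) - 1) / t with hα
  have htq : (0 : ℚ) < t := by exact_mod_cast htpos
  have hgt : α * t = (Nat.card G : ℚ) - 1 := by rw [hα]; field_simp
  have hle : (t : ℚ) ≤ ∑ χ ∈ S, (charDegree (χ : G → ℂ) : ℚ) := by exact_mod_cast involutions_le_sum t ht
  have hsq : ∑ χ ∈ S, (charDegree (χ : G → ℂ) : ℚ) ^ 2 ≤ (Nat.card G : ℚ) - 1 := by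
    have h := sum_sq_realNontriv (G := G)
    have h' : ((∑ χ ∈ S, charDegree (χ : G → ℂ) ^ 2 : ℕ) : ℚ) + 1 ≤ (Nat.card G : ℚ) := by exact_mod_cast h
    push_cast at h'
    linarith
  have hne : S.Nonempty := by
    by_contra h
    rw [Finset.not_nonempty_iff_eq_empty] at h
    rw [h] at hle
    simp at hle
    omega
  constructor
  · by_contra hcon
    push Not at hcon
    have hcs := sq_sum_le_card_mul_sum_sq (s := S) (f := fun χ => (charDegree (χ : G → ℂ) : ℚ))
    have hr : (S.card : ℚ) + 1 ≤ Nat.card (ConjClasses G) := by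
      rw [← card_irr_eq_card_conjClasses, Nat.card_eq_fintype_card]
      have h1 : S ⊆ Finset.univ.erase (principalIrr G) := fun χ hχ => by
        simp only [S, realNontriv, Finset.mem_filter, Finset.mem_univ, true_and] at hχ
        exact Finset.mem_erase.mpr ⟨hχ.2, Finset.mem_univ _⟩
      have h2 := Finset.card_le_card h1
      rw [Finset.card_erase_of_mem (Finset.mem_univ _), Finset.card_univ] at h2
      have h3 : 0 < Fintype.card (IrrCharacter G) := Fintype.card_pos_iff.mpr ⟨principalIrr G⟩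
      exact_mod_cast (show S.card + 1 ≤ Fintype.card (IrrCharacter G) by omega)
    have hclass : ∀ C : ConjClasses G, C ≠ ConjClasses.mk 1 → α ^ 2 ≤ (Nat.card C.carrier : ℚ) := by
      intro C hC
      obtain ⟨x, rfl⟩ := ConjClasses.exists_rep C
      have hx : x ≠ 1 := fun h => hC (by rw [h])
      have h2 := (hcon x hx).le
      have hidx : Nat.card (ConjClasses.mk x).carrier = (Subgroup.centralizer ({x} : Set G)).index := by
        rw [← ConjAct.orbit_eq_carrier_conjClasses,
          Nat.card_congr (MulAction.orbitEquivQuotientStabilizer _ _),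
          Subgroup.index_eq_card, ConjAct.stabilizer_eq_centralizer]
        rfl
      rw [hidx]; exact h2
    have hstrict : ∀ C : ConjClasses G, C ≠ ConjClasses.mk 1 → α ^ 2 < (Nat.card C.carrier : ℚ) := by
      intro C hC
      obtain ⟨x, rfl⟩ := ConjClasses.exists_rep C
      have hx : x ≠ 1 := fun h => hC (by rw [h])
      have hidx : Nat.card (ConjClasses.mk x).carrier = (Subgroup.centralizer ({x} : Set G)).index := by
        rw [← ConjAct.orbit_eq_carrier_conjClasses,
          Nat.card_congr (MulAction.orbitEquivQuotientStabilizer _ _),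
          Subgroup.index_eq_card, ConjAct.stabilizer_eq_centralizer]
        rfl
      rw [hidx]; exact hcon x hx
    haveI : Fintype (ConjClasses G) := Fintype.ofFinite _
    have heq := Group.sum_card_conj_classes_eq_card G
    rw [finsum_eq_sum_of_fintype, ← Finset.add_sum_erase _ _ (Finset.mem_univ (ConjClasses.mk (1 : G)))] at heq
    have hc1 : (ConjClasses.mk (1 : G)).carrier.ncard = 1 := by
      rw [Set.ncard_eq_one]
      exact ⟨1, by ext y; simp [ConjClasses.mem_carrier_iff_mk_eq, ConjClasses.mk_eq_mk_iff_isConj]⟩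
    rw [hc1] at heq
    set E := Finset.univ.erase (ConjClasses.mk (1 : G))
    have hEcard : (S.card : ℚ) ≤ E.card := by
      rw [Finset.card_erase_of_mem (Finset.mem_univ _), Finset.card_univ, ← Nat.card_eq_fintype_card]
      have : 0 < Nat.card (ConjClasses G) := Nat.card_pos
      rw [Nat.cast_sub this, Nat.cast_one]
      linarith
    have hlow : (E.card : ℚ) * α ^ 2 < (Nat.card G : ℚ) - 1 := by
      have h3 : (1 : ℚ) + ∑ C ∈ E, (C.carrier.ncard : ℚ) = Nat.card G := by exact_mod_cast heq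
      have hEne : E.Nonempty := by
        rw [← Finset.card_pos]
        have : 0 < S.card := Finset.card_pos.mpr hne
        have h4 : (0 : ℚ) < E.card := lt_of_lt_of_le (by exact_mod_cast this) hEcard
        exact_mod_cast h4
      have h5 : ∑ C ∈ E, α ^ 2 < ∑ C ∈ E, (C.carrier.ncard : ℚ) :=
        Finset.sum_lt_sum_of_nonempty hEne fun C hC => hstrict C (Finset.mem_erase.mp hC).1
      rw [Finset.sum_const, nsmul_eq_mul] at h5
      linarith
    have h6 : (t : ℚ) ^ 2 ≤ S.card * ((Nat.card G : ℚ) - 1) :=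
      (pow_le_pow_left₀ htq.le hle 2).trans (hcs.trans (mul_le_mul_of_nonneg_left hsq (Nat.cast_nonneg _)))
    have h7 : (Nat.card G : ℚ) - 1 ≤ S.card * α ^ 2 := by
      have h8 : α ^ 2 * (t : ℚ) ^ 2 ≤ α ^ 2 * (S.card * ((Nat.card G : ℚ) - 1)) :=
        mul_le_mul_of_nonneg_left h6 (sq_nonneg α)
      have h9 : α ^ 2 * (t : ℚ) ^ 2 = ((Nat.card G : ℚ) - 1) * ((Nat.card G : ℚ) - 1) := by
        rw [← mul_pow, hgt]; ring
      have hgpos : (0 : ℚ) < (Nat.card G : ℚ) - 1 := by
        have : 2 ≤ Nat.card G := Nat.le_of_dvd Nat.card_pos heven.two_dvd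
        have : (2 : ℚ) ≤ (Nat.card G : ℚ) := by exact_mod_cast this
        linarith
      rw [h9, show α ^ 2 * (S.card * ((Nat.card G : ℚ) - 1)) = (S.card * α ^ 2) * ((Nat.card G : ℚ) - 1) by ring] at h8
      exact le_of_mul_le_mul_right h8 hgpos
    have h10 : (S.card : ℚ) * α ^ 2 ≤ E.card * α ^ 2 := mul_le_mul_of_nonneg_right hEcard (sq_nonneg α)
    linarith
  · by_contra hcon
    push Not at hcon
    have hbig : ∀ χ ∈ S, α < (charDegree (χ : G → ℂ) : ℚ) := by
      intro χ hχ
      simp only [S, realNontriv, Finset.mem_filter, Finset.mem_univ, true_and] at hχ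
      exact hcon χ (fun h => hχ.2 (Subtype.ext h)) hχ.1
    have hα0 : 0 ≤ α := by
      have : (1 : ℚ) ≤ (Nat.card G : ℚ) := by exact_mod_cast Nat.card_pos (α := G)
      rw [hα]; exact div_nonneg (by linarith) htq.le
    have h1 : ∑ χ ∈ S, α * (charDegree (χ : G → ℂ) : ℚ) < ∑ χ ∈ S, (charDegree (χ : G → ℂ) : ℚ) ^ 2 :=
      Finset.sum_lt_sum_of_nonempty hne fun χ hχ => by
        rw [pow_two]
        exact mul_lt_mul_of_pos_right (hbig χ hχ) (lt_of_le_of_lt hα0 (hbig χ hχ))
    rw [← Finset.mul_sum] at h1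
    have h2 : α * t ≤ α * ∑ χ ∈ S, (charDegree (χ : G → ℂ) : ℚ) := mul_le_mul_of_nonneg_left hle hα0
    linarith

end CfsgLib.Indicator
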