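import Cfsg.Agent.Lib.Characters.FrobSchur
import Cfsg.Agent.Lib.Chars17.IrrBasic
import Mathlib.LinearAlgebra.Matrix.PosDef
import Mathlib.LinearAlgebra.Matrix.Charpoly.Basic

/-!
A character has indicator `1` exactly when it is afforded by real matrices.
-/

namespace CfsgLib.Indicator

open Matrix CfsgLib.Characters CfsgLib.FrobSchur
open scoped ComplexConjugate ComplexOrder

universe u

variable {G : Type u} [Group G] [Fintype G]

/-- Entrywise conjugation. -/
noncomputable def mconj {n : ℕ} (M : Matrix (Fin n) (Fin n) ℂ) : Matrix (Fin n) (Fin n) ℂ :=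
  M.map (starRingEnd ℂ)

theorem mconj_mul {n : ℕ} (M N : Matrix (Fin n) (Fin n) ℂ) : mconj (M * N) = mconj M * mconj N :=
  Matrix.map_mul

theorem mconj_mconj {n : ℕ} (M : Matrix (Fin n) (Fin n) ℂ) : mconj (mconj M) = M := by
  ext i j; simp [mconj]

theorem mconj_conjTranspose {n : ℕ} (M : Matrix (Fin n) (Fin n) ℂ) : mconj Mᵀ = Mᴴ := by
  ext i j; simp [mconj]

/-- An irreducible representation of indicator one is realised over `ℝ`. -/
theorem exists_real_rep {n : ℕ} (ρ : Representation ℂ G (Fin n → ℂ)) (hρ : ρ.IsIrreducible)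
    (h1 : fsInd ρ.character = 1) :
    ∃ R : G →* Matrix (Fin n) (Fin n) ℝ, ∀ g, ((R g).trace : ℂ) = ρ.character g := by
  classical
  let A := matHom ρ
  have hreal : ∀ g, (ρ.character g).im = 0 :=
    real_of_fsInd_ne_zero ⟨n, ρ, hρ, rfl⟩ (by rw [h1]; exact one_ne_zero)
  obtain ⟨B, hB0, hB⟩ := (exists_invForm_iff_real ρ hρ).mpr hreal
  have hBdet := isUnit_det_of_invForm ρ hρ hB hB0
  have hBs : Bᵀ = B := by rw [transpose_eq_fsInd_smul ρ hρ hB, h1, one_smul]
  -- invariant positive Hermitian form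
  let H : Matrix (Fin n) (Fin n) ℂ := ∑ g : G, (A g)ᴴ * A g
  have hHinv : ∀ g, (A g)ᴴ * H * A g = H := by
    intro g
    simp only [H, Matrix.mul_sum, Matrix.sum_mul]
    refine Fintype.sum_equiv (Equiv.mulRight g) _ _ fun a => ?_
    simp [Matrix.conjTranspose_mul, Matrix.mul_assoc]
  have hHpos : H.PosDef := by
    refine Matrix.PosDef.of_dotProduct_mulVec_pos ?_ ?_
    · simp [Matrix.IsHermitian, H, Matrix.conjTranspose_sum, Matrix.conjTranspose_mul]
    · intro x hx
      have e : star x ⬝ᵥ H *ᵥ x = ∑ g : G, star (A g *ᵥ x) ⬝ᵥ (A g *ᵥ x) := by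
        simp only [H, Matrix.sum_mulVec, dotProduct_sum, Matrix.star_mulVec, ← Matrix.mulVec_mulVec,
          Matrix.dotProduct_mulVec]
      rw [e]
      refine Finset.sum_pos' (fun g _ => dotProduct_star_self_nonneg _) ⟨1, Finset.mem_univ _, ?_⟩
      simpa [map_one] using dotProduct_star_self_pos_iff.mpr hx
  have hHu : IsUnit H.det := (Matrix.isUnit_iff_isUnit_det H).mp hHpos.isUnit
  let C : Matrix (Fin n) (Fin n) ℂ := H⁻¹ * mconj B
  have hCA : ∀ g, A g * C = C * mconj (A g) := by
    intro g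
    have h2 : (A g)ᴴ * mconj B * mconj (A g) = mconj B := by
      rw [← mconj_conjTranspose, ← mconj_mul, ← mconj_mul]
      exact congrArg mconj (hB g)
    have hu : IsUnit ((A g)ᴴ).det := by
      rw [Matrix.det_conjTranspose]
      exact ((Matrix.isUnit_iff_isUnit_det (A g)).mp ((Group.isUnit g).map A)).star
    have e : (A g)ᴴ * (H * (A g * C)) = (A g)ᴴ * (H * (C * mconj (A g))) := by
      calc (A g)ᴴ * (H * (A g * C)) = ((A g)ᴴ * H * A g) * C := by simp only [Matrix.mul_assoc]
        _ = H * (H⁻¹ * mconj B) := by rw [hHinv]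
        _ = (A g)ᴴ * mconj B * mconj (A g) := by
            rw [← Matrix.mul_assoc, Matrix.mul_nonsing_inv _ hHu, Matrix.one_mul, h2]
        _ = (A g)ᴴ * (((H * H⁻¹) * mconj B) * mconj (A g)) := by
            rw [Matrix.mul_nonsing_inv _ hHu, Matrix.one_mul, Matrix.mul_assoc]
        _ = _ := by simp only [C, Matrix.mul_assoc]
    have e1 := congrArg (fun X => H⁻¹ * (((A g)ᴴ)⁻¹ * X)) e
    simpa [← Matrix.mul_assoc, Matrix.nonsing_inv_mul _ hu, Matrix.nonsing_inv_mul _ hHu] using e1
  -- C conj C is a positive scalar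
  have hcomm : ∀ g, C * mconj C * A g = A g * (C * mconj C) := by
    intro g
    have hcA : mconj C * A g = mconj (A g) * mconj C := by
      rw [← mconj_mconj (A g), ← mconj_mul, ← hCA, mconj_mul, mconj_mconj]
    rw [Matrix.mul_assoc, hcA, ← Matrix.mul_assoc, ← hCA, Matrix.mul_assoc]
  haveI := hρ
  obtain ⟨lam, hlam⟩ := CfsgLib.CharScalar.exists_scalar (ρ := ρ) (Matrix.toLin' (C * mconj C))
    (fun g => by
      have e : Matrix.toLin' (C * mconj C * A g) = Matrix.toLin' (A g * (C * mconj C)) := by rw [hcomm g]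
      rw [Matrix.toLin'_mul (C * mconj C) (A g), Matrix.toLin'_mul (A g) (C * mconj C),
        show Matrix.toLin' (A g) = ρ g from Matrix.toLin'_toMatrix' (ρ g)] at e
      exact e)
  have hlam' : C * mconj C = lam • (1 : Matrix (Fin n) (Fin n) ℂ) := by
    apply Matrix.toLin'.injective
    rw [hlam, map_smul, Matrix.toLin'_one]
    rfl
  have hnpos : 0 < n := by
    rcases Nat.eq_zero_or_pos n with rfl | h
    · exfalso
      apply irr_one_ne_zero (⟨ρ.character, 0, ρ, hρ, rfl⟩ : Cfsg.IrrCharacter G)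
      simp
    · exact h
  have hCdet : IsUnit C.det := by
    rw [Matrix.det_mul]
    refine (isUnit_nonsing_inv_det H hHu).mul ?_
    rw [show (mconj B).det = conj B.det from (RingHom.map_det (starRingEnd ℂ) B).symm]
    exact hBdet.map (starRingEnd ℂ)
  -- positivity of lam
  have hpos : 0 < lam := by
    let v : Fin n → ℂ := Pi.single ⟨0, hnpos⟩ 1
    have hv : v ≠ 0 := by simp [v]
    let J : (Fin n → ℂ) → (Fin n → ℂ) := fun x => C *ᵥ (star x)
    have hmc : ∀ (M : Matrix (Fin n) (Fin n) ℂ) (x : Fin n → ℂ), star (M *ᵥ x) = mconj M *ᵥ star x := by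
      intro M x; ext i; simp [mconj, Matrix.mulVec, dotProduct]
    have hid : ∀ x w, star (J x) ⬝ᵥ H *ᵥ w = x ⬝ᵥ B *ᵥ w := by
      intro x w
      have e1 : mconj C = Hᵀ⁻¹ * B := by
        have hHc : mconj H = Hᵀ := by
          conv_rhs => rw [← hHpos.1.eq]
          ext i j; simp [mconj]
        simp only [C, mconj_mul, mconj_mconj]
        congr 1
        rw [← hHc]
        exact (Matrix.inv_eq_left_inv (by
          rw [← mconj_mul, Matrix.nonsing_inv_mul _ hHu]; ext i j; simp [mconj, Matrix.one_apply, apply_ite])).symm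
      change star (C *ᵥ star x) ⬝ᵥ H *ᵥ w = _
      rw [hmc, star_star, e1]
      rw [Matrix.dotProduct_mulVec, ← Matrix.mulVec_transpose, Matrix.mulVec_mulVec,
        ← Matrix.mul_assoc, Matrix.mul_nonsing_inv _ (by rwa [Matrix.det_transpose]), Matrix.one_mul,
        Matrix.dotProduct_mulVec, ← Matrix.mulVec_transpose, hBs]
    have hJJ : J (J v) = lam • v := by
      change C *ᵥ star (C *ᵥ star v) = _
      rw [hmc, star_star, Matrix.mulVec_mulVec, hlam', Matrix.smul_mulVec, Matrix.one_mulVec]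
    have hJv : J v ≠ 0 := by
      intro h
      have h' := Matrix.eq_zero_of_mulVec_eq_zero hCdet.ne_zero h
      exact hv (by simpa using congrArg star h')
    have e3 : star (J v) ⬝ᵥ H *ᵥ (J v) = conj lam * (star v ⬝ᵥ H *ᵥ v) := by
      have a1 := hid v (J v)
      have a2 := hid (J v) v
      rw [hJJ] at a2
      rw [a1, Matrix.dotProduct_mulVec, ← Matrix.mulVec_transpose, hBs, dotProduct_comm, ← a2, star_smul,
        smul_dotProduct]
      rfl
    have p1 := hHpos.dotProduct_mulVec_pos hJv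
    have p2 := hHpos.dotProduct_mulVec_pos hv
    rw [e3] at p1
    obtain ⟨q1, q2⟩ := Complex.pos_iff.mp p2
    obtain ⟨r1, r2⟩ := Complex.pos_iff.mp p1
    rw [Complex.mul_re, ← q2, mul_zero, sub_zero, Complex.conj_re] at r1
    rw [Complex.mul_im, ← q2, mul_zero, zero_add, Complex.conj_im] at r2
    refine Complex.pos_iff.mpr ⟨(pos_iff_pos_of_mul_pos r1).mpr q1, ?_⟩
    rcases mul_eq_zero.mp r2.symm with h | h
    · linarith
    · linarith
  obtain ⟨hre, him⟩ := Complex.pos_iff.mp hpos
  set s : ℂ := ((Real.sqrt lam.re : ℝ) : ℂ) with hs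
  have hs0 : s ≠ 0 := by
    rw [hs]; exact_mod_cast (Real.sqrt_pos.mpr hre).ne'
  have hss : s * s = lam := by
    rw [hs, ← Complex.ofReal_mul, Real.mul_self_sqrt hre.le]
    exact Complex.ext (by simp) (by simp [← him])
  let C' : Matrix (Fin n) (Fin n) ℂ := s⁻¹ • C
  have hC'A : ∀ g, A g * C' = C' * mconj (A g) := fun g => by
    simp only [C', Matrix.mul_smul, Matrix.smul_mul, hCA]
  have hC'1 : C' * mconj C' = 1 := by
    have e : mconj C' = s⁻¹ • mconj C := by
      ext i j; simp [C', mconj, hs, Complex.conj_ofReal]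
    rw [e, Matrix.smul_mul, Matrix.mul_smul, hlam', smul_smul, smul_smul, ← hss]
    field_simp
    simp
  -- choose z with z + conj z C' invertible
  have hfin : {μ : ℂ | C'.charpoly.IsRoot μ}.Finite :=
    Polynomial.finite_setOf_isRoot (Matrix.charpoly_monic _).ne_zero
  let f : ℕ → ℂ := fun t => -(1 + t * Complex.I) / (1 - t * Complex.I)
  have hne : ∀ t : ℕ, (1 : ℂ) - t * Complex.I ≠ 0 := fun t h => by
    simpa using congrArg Complex.re h
  have hfinj : Function.Injective f := by
    intro a b hab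
    have h3 := (div_eq_div_iff (hne a) (hne b)).mp hab
    have h4 : ((a : ℂ) - b) * Complex.I = 0 := by linear_combination (-1/2 : ℂ) * h3
    simpa [Complex.I_ne_zero, sub_eq_zero] using h4
  obtain ⟨t, ht⟩ : ∃ t : ℕ, f t ∉ {μ : ℂ | C'.charpoly.IsRoot μ} := by
    by_contra! h
    exact (Set.infinite_range_of_injective hfinj) (hfin.subset (Set.range_subset_iff.mpr h))
  let z : ℂ := 1 + t * Complex.I
  have hzc : conj z = 1 - t * Complex.I := by simp [z, Complex.conj_ofNat, sub_eq_add_neg]
  let P : Matrix (Fin n) (Fin n) ℂ := z • 1 + conj z • C'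
  have hP : IsUnit P.det := by
    rw [isUnit_iff_ne_zero]
    intro h0
    apply ht
    obtain ⟨v, hv, hv0⟩ := Matrix.exists_mulVec_eq_zero_iff.mpr h0
    rw [Set.mem_setOf_eq, Polynomial.IsRoot, Matrix.eval_charpoly, ← Matrix.exists_mulVec_eq_zero_iff]
    refine ⟨v, hv, ?_⟩
    have h2 : z • v + conj z • (C' *ᵥ v) = 0 := by
      simpa [P, Matrix.add_mulVec, Matrix.smul_mulVec] using hv0
    have h3 : C' *ᵥ v = f t • v := by
      have hz : conj z ≠ 0 := by rw [hzc]; exact hne t
      apply smul_right_injective (Fin n → ℂ) hz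
      simp only [smul_smul]
      rw [eq_neg_of_add_eq_zero_right h2, ← neg_smul]
      congr 1
      rw [hzc]
      simp only [f, z]
      field_simp [hne t]
    rw [Matrix.sub_mulVec, Matrix.scalar_apply, h3, ← Matrix.smul_one_eq_diagonal, Matrix.smul_mulVec,
      Matrix.one_mulVec, sub_self]
  have hPfix : C' * mconj P = P := by
    have e : mconj P = conj z • 1 + z • mconj C' := by
      ext i j; simp [P, mconj, Matrix.one_apply, apply_ite (starRingEnd ℂ)]
    rw [e, Matrix.mul_add, Matrix.mul_smul, Matrix.mul_smul, hC'1, Matrix.mul_one, add_comm]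
  let R0 : G → Matrix (Fin n) (Fin n) ℂ := fun g => P⁻¹ * A g * P
  have hR0 : ∀ g, mconj (R0 g) = R0 g := by
    intro g
    have hPc : mconj P = mconj C' * P := by
      conv_rhs => rw [← hPfix]
      have hc2 : mconj C' * C' = 1 := mul_eq_one_comm.mp hC'1
      rw [← Matrix.mul_assoc, hc2, Matrix.one_mul]
    have hAP : A g * P = P * R0 g := by
      simp only [R0, ← Matrix.mul_assoc, Matrix.mul_nonsing_inv _ hP, Matrix.one_mul]
    have h5 : mconj P * mconj (R0 g) = mconj (A g) * mconj P := by rw [← mconj_mul, ← hAP, mconj_mul]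
    have h6 : P * mconj (R0 g) = A g * P := by
      calc P * mconj (R0 g) = C' * (mconj P * mconj (R0 g)) := by rw [← Matrix.mul_assoc, hPfix]
        _ = (A g * C') * mconj P := by rw [h5, ← Matrix.mul_assoc, ← hC'A]
        _ = A g * P := by rw [Matrix.mul_assoc, hPfix]
    have h7 : P⁻¹ * (P * mconj (R0 g)) = P⁻¹ * (P * R0 g) := by rw [h6, hAP]
    simpa [← Matrix.mul_assoc, Matrix.nonsing_inv_mul _ hP] using h7
  have hof : ∀ g, ((R0 g).map Complex.re).map Complex.ofRealHom = R0 g := by
    intro g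
    ext i j
    have := congrFun (congrFun (hR0 g) i) j
    simp only [mconj, Matrix.map_apply] at this
    simp [Complex.conj_eq_iff_re.mp this]
  have hinj : Function.Injective fun M : Matrix (Fin n) (Fin n) ℝ => M.map Complex.ofRealHom :=
    Matrix.map_injective Complex.ofReal_injective
  refine ⟨{ toFun := fun g => (R0 g).map Complex.re, map_one' := hinj ?_, map_mul' := fun a b => hinj ?_ },
    fun g => ?_⟩
  · simp only [hof]
    simp [R0, map_one, Matrix.nonsing_inv_mul _ hP]
  · simp only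
    rw [Matrix.map_mul, hof, hof, hof]
    simp only [R0, map_mul]
    rw [show P⁻¹ * A a * P * (P⁻¹ * A b * P) = P⁻¹ * A a * (P * P⁻¹) * A b * P by
      simp only [Matrix.mul_assoc], Matrix.mul_nonsing_inv _ hP]
    simp [Matrix.mul_assoc]
  · change ((((R0 g).map Complex.re).trace : ℝ) : ℂ) = _
    rw [← trace_matHom]
    have e : (((R0 g).map Complex.re).trace : ℂ) = (R0 g).trace := by
      conv_rhs => rw [← hof g]
      simp [Matrix.trace]
    rw [e]
    simp only [R0]
    rw [Matrix.trace_mul_comm, ← Matrix.mul_assoc, Matrix.mul_nonsing_inv _ hP, Matrix.one_mul]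

/-- A real matrix representation of an irreducible character has indicator one. -/
theorem fsInd_eq_one_of_real {χ : G → ℂ} (hχ : Cfsg.IsIrrCharacter G χ) {n : ℕ}
    (R : G →* Matrix (Fin n) (Fin n) ℝ) (hR : ∀ g, ((R g).trace : ℂ) = χ g) : fsInd χ = 1 := by
  classical
  let A : G →* Matrix (Fin n) (Fin n) ℂ := (Complex.ofRealHom.mapMatrix.toMonoidHom).comp R
  have htr : ∀ g, (A g).trace = χ g := fun g => by rw [← hR g]; simp [A, Matrix.trace]
  have hreal : ∀ g, conj (χ g) = χ g := fun g => by rw [← hR g]; simp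
  have h1 : LinearMap.trace ℂ _ (avgForm A) = 1 := by
    rw [trace_avgForm]
    have := classInner_irr_self hχ
    rw [Cfsg.classInner] at this
    rw [← this]
    exact congrArg _ (Finset.sum_congr rfl fun g _ => by rw [htr, hreal])
  let V : Submodule ℂ (Matrix (Fin n) (Fin n) ℂ) := LinearMap.range (avgForm A)
  have hproj : LinearMap.IsProj V (avgForm A) := by
    refine ⟨fun X => LinearMap.mem_range_self _ X, ?_⟩
    rintro _ ⟨X, rfl⟩
    exact avgForm_of_isInvForm A (avgForm_isInvForm A X)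
  have hdim : Module.finrank ℂ V = 1 := by
    have := hproj.trace
    rw [h1] at this
    exact_mod_cast this.symm
  let S : Matrix (Fin n) (Fin n) ℂ := avgForm A 1
  have hS0 : S ≠ 0 := by
    have hn : 0 < n := by
      rcases Nat.eq_zero_or_pos n with rfl | h
      · exfalso
        exact irr_one_ne_zero ⟨χ, hχ⟩ (by change χ 1 = 0; rw [← htr]; simp [Matrix.trace])
      · exact h
    intro h0
    have e : (∑ g : G, ∑ i, (R g i ⟨0, hn⟩) * (R g i ⟨0, hn⟩)) = 0 := by
      have := congrFun (congrFun h0 ⟨0, hn⟩) ⟨0, hn⟩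
      simp only [S, avgForm_apply, Matrix.smul_apply, Matrix.sum_apply, Matrix.mul_one, smul_eq_mul,
        Matrix.zero_apply, mul_eq_zero, inv_eq_zero] at this
      rcases this with h2 | h2
      · exact absurd h2 natCard_cast_ne_zero
      · simp only [A, Matrix.mul_apply, Matrix.transpose_apply, MonoidHom.coe_comp, Function.comp_apply,
          RingHom.toMonoidHom_eq_coe, MonoidHom.coe_coe, RingHom.mapMatrix_apply, Matrix.map_apply,
          Complex.ofRealHom_eq_coe] at h2
        exact_mod_cast h2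
    have h2 := (Finset.sum_eq_zero_iff_of_nonneg (fun g _ => Finset.sum_nonneg fun i _ =>
      mul_self_nonneg _)).mp e 1 (Finset.mem_univ _)
    rw [map_one] at h2
    have h3 := (Finset.sum_eq_zero_iff_of_nonneg (fun i _ => mul_self_nonneg _)).mp h2 ⟨0, hn⟩
      (Finset.mem_univ _)
    simp at h3
  have hSs : Sᵀ = S := by
    simp [S, avgForm_apply, Matrix.transpose_sum, Matrix.transpose_smul, Matrix.transpose_mul]
  have hsym : ∀ X, (avgForm A X)ᵀ = avgForm A X := by
    intro X
    obtain ⟨c, hc⟩ := (finrank_eq_one_iff_of_nonzero' (⟨S, LinearMap.mem_range_self _ 1⟩ : V)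
      (by simpa using hS0)).mp hdim ⟨avgForm A X, LinearMap.mem_range_self _ X⟩
    have hc' : c • S = avgForm A X := congrArg Subtype.val hc
    rw [← hc', Matrix.transpose_smul, hSs]
  have h2 : (avgForm A).comp transposeMap = avgForm A := by
    ext1 X
    change avgForm A Xᵀ = _
    rw [← hsym X]
    simp [avgForm_apply, Matrix.transpose_sum, Matrix.transpose_smul, Matrix.transpose_mul, Matrix.mul_assoc]
  have h3 := trace_avgForm_transpose A
  rw [h2, h1] at h3
  rw [fsInd_eq_sum]
  simp only [htr] at h3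
  exact h3.symm

theorem indicator_one_iff (χ : Cfsg.IrrCharacter G) :
    fsInd (χ : G → ℂ) = 1 ↔ ∃ (n : ℕ) (ρ : Representation ℝ G (Fin n → ℝ)),
      ∀ g : G, ((LinearMap.trace ℝ (Fin n → ℝ) (ρ g) : ℝ) : ℂ) = (χ : G → ℂ) g := by
  obtain ⟨c, n, ρ, hρ, rfl⟩ := χ
  constructor
  · intro h1
    obtain ⟨R, hR⟩ := exists_real_rep ρ hρ h1
    refine ⟨n, (Matrix.toLinAlgEquiv' (R := ℝ) (n := Fin n)).toAlgHom.toRingHom.toMonoidHom.comp R, fun g => ?_⟩
    change _ = ρ.character g
    rw [← hR g]
    congr 1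
    change LinearMap.trace ℝ _ (Matrix.toLin' (R g)) = _
    rw [Matrix.trace_toLin'_eq]
  · rintro ⟨m, σ, hσ⟩
    refine fsInd_eq_one_of_real ⟨n, ρ, hρ, rfl⟩ ((LinearMap.toMatrixAlgEquiv' (R := ℝ)
      (n := Fin m)).toAlgHom.toRingHom.toMonoidHom.comp σ) fun g => ?_
    refine Eq.trans ?_ (hσ g)
    congr 1
    change (LinearMap.toMatrix' (σ g)).trace = _
    rw [LinearMap.trace_eq_matrix_trace ℝ (Pi.basisFun ℝ (Fin m)), LinearMap.toMatrix_eq_toMatrix']

end CfsgLib.Indicator
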