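import Cfsg.Agent.Lib.Indicator.Count
import Mathlib.GroupTheory.SpecificGroups.Cyclic
import Mathlib.Algebra.Group.Hom.Instances

/-!
Alperin–Feit–Thompson: a 2-group with `1 mod 4` involutions is cyclic or has `|G : G'| = 4`.
-/

namespace CfsgLib.Indicator

open Cfsg CfsgLib.Characters CfsgLib.FrobSchur CfsgLib.LinearTwist
open scoped ComplexConjugate

variable {G : Type*} [Group G] [Fintype G]

/-- Twist by a linear character. -/
noncomputable def twist (f : G →* ℂˣ) (χ : IrrCharacter G) : IrrCharacter G :=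
  ⟨fun g => (χ : G → ℂ) g * (f g : ℂ), isIrr_mul_hom χ.2 f⟩

theorem twist_one (χ : IrrCharacter G) : twist 1 χ = χ := Subtype.ext (funext fun g => by simp [twist])

theorem twist_mul (f f' : G →* ℂˣ) (χ : IrrCharacter G) : twist f (twist f' χ) = twist (f * f') χ :=
  Subtype.ext (funext fun g => by simp [twist]; ring)

omit [Fintype G] in
theorem hom_mul_comm (f f' : G →* ℂˣ) : f * f' = f' * f :=
  MonoidHom.ext fun g => by simp [mul_comm]

omit [Fintype G] in
theorem hom_mul_sq (f f' : G →* ℂˣ) (hf : f * f = 1) (hf' : f' * f' = 1) : f * f' * (f * f') = 1 := by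
  refine MonoidHom.ext fun g => ?_
  have h1 : f g * f g = 1 := DFunLike.congr_fun hf g
  have h2 : f' g * f' g = 1 := DFunLike.congr_fun hf' g
  change f g * f' g * (f g * f' g) = 1
  rw [mul_mul_mul_comm, h1, h2, mul_one]

omit [Fintype G] in
theorem hom_inv_sq (f : G →* ℂˣ) (hf : f * f = 1) : f⁻¹ * f⁻¹ = 1 := by
  refine MonoidHom.ext fun g => ?_
  have h1 : f g * f g = 1 := DFunLike.congr_fun hf g
  change (f g)⁻¹ * (f g)⁻¹ = 1
  rw [← mul_inv, h1, inv_one]

theorem twist_degree (f : G →* ℂˣ) (χ : IrrCharacter G) :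
    charDegree (twist f χ : G → ℂ) = charDegree (χ : G → ℂ) := by
  simp [twist, charDegree]

/-- The stabiliser of `χ` has order at most `χ(1)²`. -/
theorem card_stabilizer_le (χ : IrrCharacter G) (T : Finset (G →* ℂˣ))
    (hT : ∀ f ∈ T, twist f χ = χ) : T.card ≤ charDegree (χ : G → ℂ) ^ 2 := by
  classical
  set φ : G → ℂ := fun g => conj ((χ : G → ℂ) g) * (χ : G → ℂ) g with hφ
  have hφc : IsCharacter G φ :=
    isCharacter_mul (isCharacter_conj (irr_isCharacter χ)) (irr_isCharacter χ)
  obtain ⟨m, hm⟩ := exists_degree hφc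
  have hco : ∀ f ∈ T, classInner φ (fun g => (f g : ℂ)) = 1 := by
    intro f hf
    rw [← classInner_irr_self χ.2]
    simp only [classInner]
    congr 1
    refine Finset.sum_congr rfl fun g _ => ?_
    have h1 : (χ : G → ℂ) g * (f g : ℂ) = (χ : G → ℂ) g := congrFun (congrArg Subtype.val (hT f hf)) g
    have h2 : conj ((χ : G → ℂ) g) = conj ((χ : G → ℂ) g) * conj (f g : ℂ) := by rw [← map_mul, h1]
    simp only [hφ]
    linear_combination (-((χ : G → ℂ) g)) * h2
  have hexp := congrFun (classFunction_eq_sum (isClassFunction_of_isCharacter hφc)) 1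
  rw [Finset.sum_apply] at hexp
  have hnat : ∀ ψ : IrrCharacter G, ∃ k : ℕ, classInner φ (ψ : G → ℂ) = k := fun ψ =>
    classInner_char_nat hφc (irr_isCharacter ψ)
  choose k hk using hnat
  have hone : φ 1 = ((charDegree (χ : G → ℂ) ^ 2 : ℕ) : ℂ) := by
    push_cast
    rw [CfsgLib.Chars17.cast_irrDegree]
    simp only [hφ]
    rw [← CfsgLib.Chars17.cast_irrDegree, Complex.conj_natCast]
    ring
  have hexp' : (charDegree (χ : G → ℂ) ^ 2 : ℕ) =
      ∑ ψ : IrrCharacter G, k ψ * charDegree (ψ : G → ℂ) := by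
    have : ((charDegree (χ : G → ℂ) ^ 2 : ℕ) : ℂ) =
        ((∑ ψ : IrrCharacter G, k ψ * charDegree (ψ : G → ℂ) : ℕ) : ℂ) := by
      rw [← hone, hexp]
      push_cast
      refine Finset.sum_congr rfl fun ψ _ => ?_
      rw [Pi.smul_apply, smul_eq_mul, hk, CfsgLib.Chars17.cast_irrDegree]
    exact_mod_cast this
  rw [hexp']
  calc T.card = ∑ ψ ∈ T.image linearIrr, 1 := by
        rw [Finset.sum_const, smul_eq_mul, mul_one, Finset.card_image_of_injective _ linearIrr_injective]
    _ ≤ ∑ ψ ∈ T.image linearIrr, k ψ * charDegree (ψ : G → ℂ) := by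
        refine Finset.sum_le_sum fun ψ hψ => ?_
        obtain ⟨f, hf, rfl⟩ := Finset.mem_image.mp hψ
        have h1 : k (linearIrr f) = 1 := by
          have := hk (linearIrr f)
          rw [show classInner φ ((linearIrr f : IrrCharacter G) : G → ℂ) = 1 from hco f hf] at this
          exact_mod_cast this.symm
        rw [h1]; simp [linearIrr, charDegree]
    _ ≤ _ := Finset.sum_le_sum_of_subset (Finset.subset_univ _)

omit [Fintype G] in
theorem even_card_of_involution {α : Type*} (X : Finset α) (τ : α → α)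
    (hτ : ∀ a ∈ X, τ a ∈ X) (hinv : ∀ a ∈ X, τ (τ a) = a) (hfix : ∀ a ∈ X, τ a ≠ a) : Even X.card := by
  classical
  have h1 : ∑ _a ∈ X, (1 : ZMod 2) = 0 := by
    refine Finset.sum_involution (fun a _ => τ a) ?_ ?_ hτ hinv
    · intro a _; decide
    · intro a ha _; exact hfix a ha
  rw [Finset.sum_const, nsmul_one, ZMod.natCast_eq_zero_iff_even] at h1
  exact h1

theorem two_group_involutions (hG : IsPGroup 2 G)
    (ht : Nat.card {x : G // orderOf x = 2} % 4 = 1) : IsCyclic G ∨ (commutator G).index = 4 := by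
  classical
  haveI : Fact (Nat.Prime 2) := ⟨Nat.prime_two⟩
  obtain ⟨e, he, hsum⟩ := involution_count _ (rfl : Nat.card {x : G // orderOf x = 2} = _)
  set d : IrrCharacter G → ℕ := fun χ => charDegree (χ : G → ℂ)
  -- degrees are powers of two
  have hd : ∀ χ, d χ = 1 ∨ d χ = 2 ∨ 4 ∣ d χ := by
    intro χ
    obtain ⟨k, hk⟩ := IsPGroup.iff_card.mp hG
    have h1 : d χ ∣ 2 ^ k := hk ▸ CfsgLib.Chars17.irrDegree_dvd_card χ
    obtain ⟨j, _, hj⟩ := (Nat.dvd_prime_pow Nat.prime_two).mp h1
    match j, hj with
    | 0, hj => exact Or.inl hj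
    | 1, hj => exact Or.inr (Or.inl hj)
    | j + 2, hj => exact Or.inr (Or.inr (by rw [hj, pow_add]; exact dvd_mul_left _ _))
  haveI : Fintype (G →* ℂˣ) := Fintype.ofInjective linearIrr linearIrr_injective
  let L2 : Finset (G →* ℂˣ) := Finset.univ.filter fun f => f * f = 1
  let D2 : Finset (IrrCharacter G) := Finset.univ.filter fun χ => d χ = 2 ∧ IsRealChar (χ : G → ℂ)
  -- real linear characters
  have hreal1 : ∀ f : G →* ℂˣ, IsRealChar (linearIrr f : G → ℂ) ↔ f * f = 1 := by
    intro f
    have hu : ∀ g, (f g : ℂ) * conj (f g : ℂ) = 1 := fun g => by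
      rw [Complex.mul_conj, Complex.normSq_eq_norm_sq]
      have : (f g : ℂ) ^ Nat.card G = 1 := by
        rw [← Units.val_pow_eq_pow_val, ← map_pow, pow_card_eq_one', map_one, Units.val_one]
      rw [Complex.norm_eq_one_of_pow_eq_one this Nat.card_pos.ne']
      simp
    constructor
    · intro h
      ext g
      have := hu g
      rw [Complex.conj_eq_iff_im.mpr (show ((f g : ℂ)).im = 0 from h g)] at this
      simpa using this
    · intro h g
      have h1 : (f g : ℂ) * (f g : ℂ) = 1 := by
        simpa using congrArg (fun F : G →* ℂˣ => ((F g : ℂˣ) : ℂ)) h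
      rcases mul_self_eq_one_iff.mp h1 with h2 | h2 <;>
        simp [linearIrr, h2]
  have hind1 : ∀ f : G →* ℂˣ, f * f = 1 → e (linearIrr f) = 1 := by
    intro f hf
    have h1 : fsInd ((linearIrr f : IrrCharacter G) : G → ℂ) = 1 := by
      rw [fsInd_eq_sum]
      have : ∀ g, (f (g * g) : ℂ) = 1 := fun g => by
        simpa using congrArg (fun F : G →* ℂˣ => ((F g : ℂˣ) : ℂ)) hf
      simp only [linearIrr, this, Finset.sum_const, Finset.card_univ, nsmul_eq_mul, mul_one,
        Nat.card_eq_fintype_card]
      rw [inv_mul_cancel₀ (Nat.cast_ne_zero.mpr Fintype.card_ne_zero : (Fintype.card G : ℂ) ≠ 0)]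
    exact_mod_cast ((he (linearIrr f)).1.symm.trans h1)
  -- the count mod 4
  have hmod : ((L2.card : ℤ) + 2 * D2.card : ZMod 4) = 2 := by
    have hterm : ∀ χ : IrrCharacter G, ((e χ * (d χ : ℤ) : ℤ) : ZMod 4) =
        (if χ ∈ L2.image linearIrr then 1 else 0) + (if χ ∈ D2 then 2 else 0) := by
      intro χ
      have hd1 : χ ∈ L2.image linearIrr ↔ d χ = 1 ∧ IsRealChar (χ : G → ℂ) := by
        constructor
        · intro h
          obtain ⟨f, hf, rfl⟩ := Finset.mem_image.mp h
          exact ⟨by simp [d, linearIrr, charDegree],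
            (hreal1 f).mpr (Finset.mem_filter.mp hf).2⟩
        · rintro ⟨h1, h2⟩
          obtain ⟨f, rfl⟩ := exists_linearIrr_eq χ (by
            rw [← CfsgLib.Chars17.cast_irrDegree]; exact_mod_cast h1)
          exact Finset.mem_image_of_mem _ (Finset.mem_filter.mpr ⟨Finset.mem_univ _, (hreal1 f).mp h2⟩)
      have hd2 : χ ∈ D2 ↔ d χ = 2 ∧ IsRealChar (χ : G → ℂ) := by simp [D2]
      rcases (he χ).2 with ⟨h, hr⟩ | ⟨h, hr⟩
      · rcases hd χ with h1 | h1 | h1
        · rw [if_pos (hd1.mpr ⟨h1, hr⟩), if_neg (fun hh => by have := (hd2.mp hh).1; omega)]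
          obtain ⟨f, hf, hfe⟩ := Finset.mem_image.mp (hd1.mpr ⟨h1, hr⟩)
          have he1 : e χ = 1 := hfe ▸ hind1 f (Finset.mem_filter.mp hf).2
          simp [he1, h1]
        · rw [if_neg (fun hh => by have := (hd1.mp hh).1; omega), if_pos (hd2.mpr ⟨h1, hr⟩)]
          rcases h with h | h <;> simp [h, h1] <;> decide
        · rw [if_neg (fun hh => by have := (hd1.mp hh).1; omega),
            if_neg (fun hh => by have := (hd2.mp hh).1; omega), add_zero, Int.cast_mul, Int.cast_natCast,
            (ZMod.natCast_eq_zero_iff _ _).mpr h1, mul_zero]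
      · rw [if_neg (fun hh => hr (hd1.mp hh).2), if_neg (fun hh => hr (hd2.mp hh).2), h]
        simp
    have hcast := congrArg (Int.cast : ℤ → ZMod 4) hsum
    rw [Int.cast_sum, Finset.sum_congr rfl (fun χ _ => hterm χ), Finset.sum_add_distrib,
      Finset.sum_ite_mem, Finset.univ_inter, Finset.sum_ite_mem, Finset.univ_inter, Finset.sum_const,
      Finset.sum_const, Finset.card_image_of_injective _ linearIrr_injective, Int.cast_add,
      Int.cast_natCast] at hcast
    have ht4 : ((Nat.card {x : G // orderOf x = 2} : ℕ) : ZMod 4) = ((1 : ℕ) : ZMod 4) :=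
      (ZMod.natCast_eq_natCast_iff' _ _ _).mpr (by rw [ht])
    rw [ht4] at hcast
    simp only [nsmul_eq_mul, mul_one, Int.cast_one, Nat.cast_one] at hcast
    push_cast
    rw [mul_comm (2 : ZMod 4)]
    rw [← hcast]
    decide
  -- L2 is a group of order a power of two
  by_cases hcyc : IsCyclic G
  · exact Or.inl hcyc
  refine Or.inr ?_
  have hL2even : Even L2.card := by
    have h1 : ((L2.card : ℤ) + 2 * D2.card : ℤ) % 2 = 0 := by
      have h2 := congrArg (ZMod.castHom (show (2:ℕ) ∣ 4 by norm_num) (ZMod 2)) hmod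
      simp only [map_add, map_mul, map_intCast, map_ofNat] at h2
      have h3 : (((L2.card : ℤ) + 2 * D2.card : ℤ) : ZMod 2) = 0 := by
        push_cast
        push_cast at h2
        simp only [map_natCast] at h2
        rw [h2]; rfl
      simpa using Int.emod_eq_zero_of_dvd ((ZMod.intCast_zmod_eq_zero_iff_dvd _ 2).mp h3)
    rw [Nat.even_iff]; omega
  -- two different maximal subgroups give at least four
  let K : Subgroup (G →* ℂˣ) :=
    { carrier := {f | f * f = 1}
      one_mem' := by simp
      mul_mem' := fun {a b} ha hb => by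
        simp only [Set.mem_setOf_eq] at ha hb ⊢
        exact hom_mul_sq a b ha hb
      inv_mem' := fun {a} ha => by
        simp only [Set.mem_setOf_eq] at ha ⊢
        exact hom_inv_sq a ha }
  have hKcard : Nat.card K = L2.card := by
    rw [Nat.card_eq_fintype_card]
    exact Fintype.card_of_subtype L2 (by simp [L2, K])
  have hfour : 4 ≤ L2.card ∧ ∃ j, L2.card = 2 ^ j := by
    have hpow : ∃ j, L2.card = 2 ^ j := by
      have hp : IsPGroup 2 K := fun f => ⟨1, Subtype.ext (by rw [pow_one, pow_two]; exact f.2)⟩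
      obtain ⟨j, hj⟩ := IsPGroup.iff_card.mp hp
      exact ⟨j, hKcard ▸ hj⟩
    refine ⟨?_, hpow⟩
    by_contra hlt
    -- every index 2 subgroup is the same, so G is cyclic
    obtain ⟨j, hj⟩ := hpow
    have hle : L2.card ≤ 2 := by
      match j, hj with
      | 0, hj => omega
      | 1, hj => omega
      | j + 2, hj => exfalso; apply hlt; rw [hj, pow_add]; exact Nat.le_mul_of_pos_left _ (by positivity)
    apply hcyc
    have hmk : ∀ M : Subgroup G, IsCoatom M → ∃ f : G →* ℂˣ, f * f = 1 ∧ f.ker = M := by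
      intro M hM
      have hidx := CfsgLib.PGroup.index_of_isCoatom hG hM
      haveI : M.Normal := CfsgLib.PGroup.normal_of_isCoatom hG hM
      have hcard : Nat.card (G ⧸ M) = 2 := by rw [← Subgroup.index_eq_card, hidx]
      have hc2 : Nat.card ℤˣ = 2 := by simp
      let i : (G ⧸ M) ≃* ℤˣ := mulEquivOfPrimeCardEq hcard hc2
      let u : ℤˣ →* ℂˣ := Units.map (Int.castRingHom ℂ).toMonoidHom
      have hu : Function.Injective u := Units.map_injective (fun a b h => by simpa using h)
      refine ⟨u.comp (i.toMonoidHom.comp (QuotientGroup.mk' M)), ?_, ?_⟩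
      · ext g
        simp only [MonoidHom.mul_apply, MonoidHom.comp_apply, MonoidHom.one_apply]
        rw [← map_mul]
        simp [Int.units_mul_self]
      · ext g
        rw [MonoidHom.mem_ker, MonoidHom.comp_apply, MonoidHom.comp_apply,
          map_eq_one_iff u hu, MulEquiv.coe_toMonoidHom, MulEquiv.map_eq_one_iff, QuotientGroup.mk'_apply,
          QuotientGroup.eq_one_iff]
    have huniq : ∀ M M' : Subgroup G, IsCoatom M → IsCoatom M' → M = M' := by
      intro M M' hM hM'
      by_contra hne
      obtain ⟨f, hf, hfk⟩ := hmk M hM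
      obtain ⟨f', hf', hfk'⟩ := hmk M' hM'
      have h3 : ({1, f, f'} : Finset (G →* ℂˣ)) ⊆ L2 := by
        intro a ha
        simp only [Finset.mem_insert, Finset.mem_singleton] at ha
        rcases ha with h | h | h <;> subst h <;> simp only [L2, Finset.mem_filter, Finset.mem_univ, true_and]
        · exact MonoidHom.ext fun g => by simp
        · exact hf
        · exact hf'
      have hf1 : f ≠ 1 := fun h => hM.1 (by rw [← hfk, h]; simp)
      have hf1' : f' ≠ 1 := fun h => hM'.1 (by rw [← hfk', h]; simp)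
      have hff : f ≠ f' := fun h => hne (by rw [← hfk, ← hfk', h])
      have := Finset.card_le_card h3
      rw [Finset.card_insert_of_notMem (by simp [Ne.symm hf1, Ne.symm hf1']),
        Finset.card_insert_of_notMem (by simp [hff]), Finset.card_singleton] at this
      omega
    by_cases hM : ∃ M : Subgroup G, IsCoatom M
    · obtain ⟨M, hM⟩ := hM
      obtain ⟨g, hg⟩ : ∃ g, g ∉ M := by
        by_contra! h; exact hM.1 (eq_top_iff.mpr fun a _ => h a)
      refine isCyclic_iff_exists_zpowers_eq_top.mpr ⟨g, ?_⟩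
      rcases eq_top_or_exists_le_coatom (Subgroup.zpowers g) with h | ⟨N, hN, hle'⟩
      · exact h
      · exact absurd (huniq M N hM hN ▸ hle' (Subgroup.mem_zpowers g)) hg
    · refine isCyclic_iff_exists_zpowers_eq_top.mpr ⟨1, ?_⟩
      rcases eq_top_or_exists_le_coatom (Subgroup.zpowers (1 : G)) with h | ⟨N, hN, -⟩
      · exact h
      · exact absurd ⟨N, hN⟩ hM
  obtain ⟨hfour, j, hj⟩ := hfour
  have hD2odd : Odd D2.card := by
    obtain ⟨i, hi⟩ : 4 ∣ L2.card := by
      match j, hj with
      | 0, hj => omega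
      | 1, hj => omega
      | j + 2, hj => rw [hj, pow_add]; exact dvd_mul_left _ _
    push_cast at hmod
    rw [show ((L2.card : ℕ) : ZMod 4) = 0 from (ZMod.natCast_eq_zero_iff _ _).mpr ⟨i, hi⟩, zero_add] at hmod
    by_contra hcon
    obtain ⟨k, hk⟩ := Nat.not_odd_iff_even.mp hcon
    rw [hk] at hmod
    push_cast at hmod
    rw [show (2 : ZMod 4) * ((k : ZMod 4) + k) = (4 : ZMod 4) * k by ring,
      show (4 : ZMod 4) = 0 from rfl, zero_mul] at hmod
    exact absurd hmod (by decide)
  -- real twists of D2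
  have htw : ∀ f : G →* ℂˣ, f * f = 1 → ∀ χ ∈ D2, twist f χ ∈ D2 := by
    intro f hf χ hχ
    simp only [D2, Finset.mem_filter, Finset.mem_univ, true_and, d] at hχ ⊢
    refine ⟨by rw [twist_degree]; exact hχ.1, fun g => ?_⟩
    have h1 : IsRealChar (linearIrr f : G → ℂ) := (hreal1 f).mpr hf
    have h2 := hχ.2 g
    have h3 := h1 g
    simp only [linearIrr] at h3
    simp [twist, Complex.mul_im, h2, h3]
  let X : Finset (IrrCharacter G) := D2.filter fun χ => ∀ f ∈ L2, twist f χ = χ
  have hL2sq : ∀ f ∈ L2, f * f = 1 := fun f hf => (Finset.mem_filter.mp hf).2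
  have hXodd : Odd X.card := by
    -- remove the moved elements, orbit by orbit
    have key : ∀ (T : Finset (G →* ℂˣ)), (∀ f ∈ T, f * f = 1) →
        Odd (D2.filter fun χ => ∀ f ∈ T, twist f χ = χ).card := by
      intro T
      induction T using Finset.induction with
      | empty => intro _; simpa using hD2odd
      | @insert f T _ ih =>
        intro hT
        have hf := hT f (Finset.mem_insert_self _ _)
        have hY := ih fun f' h' => hT f' (Finset.mem_insert_of_mem h')
        set Y := D2.filter fun χ => ∀ f' ∈ T, twist f' χ = χ with hYdef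
        have hsplit := Finset.card_filter_add_card_filter_not (s := Y) (fun χ => twist f χ = χ)
        have hev : Even (Y.filter fun χ => ¬ twist f χ = χ).card := by
          refine even_card_of_involution _ (twist f) ?_ ?_ (fun a ha => (Finset.mem_filter.mp ha).2)
          · intro a ha
            simp only [Y, Finset.mem_filter] at ha ⊢
            refine ⟨⟨htw f hf a ha.1.1, fun f' h' => ?_⟩, ?_⟩
            · rw [twist_mul, hom_mul_comm, ← twist_mul, ha.1.2 f' h']
            · rw [twist_mul, hf, twist_one]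
              exact fun h => ha.2 h.symm
          · intro a _
            rw [twist_mul, hf, twist_one]
        have heq : (D2.filter fun χ => ∀ f' ∈ insert f T, twist f' χ = χ) =
            Y.filter fun χ => twist f χ = χ := by
          ext χ
          simp only [Y, Finset.mem_filter, Finset.forall_mem_insert]
          tauto
        rw [heq]
        rw [← hsplit, Nat.odd_add] at hY
        exact hY.mpr hev
    exact key L2 hL2sq
  obtain ⟨χ₀, hχ₀⟩ : X.Nonempty := Finset.card_pos.mp hXodd.pos
  have hXspec : ∀ χ ∈ X, charDegree (χ : G → ℂ) = 2 ∧ IsRealChar (χ : G → ℂ) ∧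
      ∀ f ∈ L2, twist f χ = χ := by
    intro χ hχ
    simp only [X, D2, Finset.mem_filter, Finset.mem_univ, true_and, d] at hχ
    exact ⟨hχ.1.1, hχ.1.2, hχ.2⟩
  have hL4 : L2.card = 4 := by
    refine le_antisymm ?_ hfour
    have := card_stabilizer_le χ₀ L2 (hXspec χ₀ hχ₀).2.2
    rw [(hXspec χ₀ hχ₀).1] at this
    simpa using this
  -- no element of order 4
  have hexp2 : ∀ f : G →* ℂˣ, f * f = 1 := by
    by_contra! hne
    obtain ⟨f, hf⟩ := hne
    have hpf : IsPGroup 2 (G →* ℂˣ) := by
      intro a
      obtain ⟨k, hk⟩ := IsPGroup.iff_card.mp hG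
      refine ⟨k, MonoidHom.ext fun g => ?_⟩
      rw [MonoidHom.pow_apply, ← map_pow, ← hk, pow_card_eq_one', map_one]
      rfl
    obtain ⟨k, hk0⟩ := hpf f
    have hk : ∀ g, (f g) ^ 2 ^ k = 1 := fun g => by
      have := DFunLike.congr_fun hk0 g
      simpa using this
    obtain ⟨lam, hlam1, hlam2⟩ : ∃ lam : G →* ℂˣ, lam * lam ≠ 1 ∧ (lam * lam) * (lam * lam) = 1 := by
      clear hk0
      induction k generalizing f with
      | zero =>
        exact absurd (MonoidHom.ext fun g => by
          have := hk g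
          rw [pow_zero, pow_one] at this
          simp [this]) hf
      | succ k ih =>
        by_cases h : (f * f) * (f * f) = 1
        · exact ⟨f, hf, h⟩
        · refine ih (f * f) h fun g => ?_
          rw [MonoidHom.mul_apply, ← pow_two, ← pow_mul, ← pow_succ']
          exact hk g
    have hsq : lam * lam ∈ L2 := Finset.mem_filter.mpr ⟨Finset.mem_univ _, hlam2⟩
    have hev : Even X.card := by
      refine even_card_of_involution _ (twist lam) ?_ ?_ ?_
      · intro χ hχ
        obtain ⟨h1, h2, h3⟩ := hXspec χ hχ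
        simp only [X, D2, Finset.mem_filter, Finset.mem_univ, true_and, d]
        refine ⟨⟨by rw [twist_degree]; exact h1, fun g => ?_⟩, fun f' h' => ?_⟩
        · -- conj (χ lam) = χ lam³ = χ lam
          have h4 := congrFun (congrArg Subtype.val (h3 _ hsq)) g
          simp only [twist, MonoidHom.mul_apply, Units.val_mul] at h4 ⊢
          rw [← Complex.conj_eq_iff_im, map_mul, Complex.conj_eq_iff_im.mpr (h2 g)]
          have hu : (lam g : ℂ) * conj (lam g : ℂ) = 1 := by
            rw [Complex.mul_conj, Complex.normSq_eq_norm_sq]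
            have : (lam g : ℂ) ^ Nat.card G = 1 := by
              rw [← Units.val_pow_eq_pow_val, ← map_pow, pow_card_eq_one', map_one, Units.val_one]
            rw [Complex.norm_eq_one_of_pow_eq_one this Nat.card_pos.ne']
            simp
          calc (χ : G → ℂ) g * conj (lam g : ℂ)
              = ((χ : G → ℂ) g * ((lam g : ℂ) * (lam g : ℂ))) * conj (lam g : ℂ) := by rw [h4]
            _ = (χ : G → ℂ) g * (lam g : ℂ) * ((lam g : ℂ) * conj (lam g : ℂ)) := by ring
            _ = _ := by rw [hu, mul_one]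
        · rw [twist_mul, hom_mul_comm, ← twist_mul, h3 f' h']
      · intro χ hχ
        rw [twist_mul]
        exact (hXspec χ hχ).2.2 _ hsq
      · intro χ hχ heq
        have h5 := card_stabilizer_le χ (insert lam L2) (fun f' h' => by
          rcases Finset.mem_insert.mp h' with rfl | h'
          · exact heq
          · exact (hXspec χ hχ).2.2 f' h')
        rw [Finset.card_insert_of_notMem (fun h => hlam1 (hL2sq lam h)), hL4, (hXspec χ hχ).1] at h5
        omega
    exact Nat.not_even_iff_odd.mpr hXodd hev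
  rw [← card_linear_irr]
  rw [← hL4]
  have huniv : L2 = Finset.univ := Finset.filter_true_of_mem fun f _ => hexp2 f
  rw [huniv, Finset.card_univ, ← Nat.card_eq_fintype_card]
  refine (Nat.card_eq_of_bijective (fun f => ⟨linearIrr f, by simp [linearIrr]⟩)
      ⟨fun f f' h => linearIrr_injective (congrArg Subtype.val h),
        fun χ => (exists_linearIrr_eq χ.1 χ.2).imp fun f hf => Subtype.ext hf⟩).symm

end CfsgLib.Indicator
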